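import Mathlib
import Cfsg.Agent.S0205
import Cfsg.Agent.S0215
import Cfsg.Agent.S0338
import Cfsg.Agent.S0339
import Cfsg.Agent.S0680
import Cfsg.Agent.Lib.MinimalNormal
import Cfsg.Agent.Lib.SuzukiUniq.Zassenhaus
import Cfsg.Prelude.Def_Sz

/-!
Doubly transitive groups with an involution `t` such that all non-identity elements commuting with
`t` fix as many points as `t`.

A double count of the pairs swapped by the conjugates of `t` shows that the centralizer of `t` has
order `n - i`, that all elements swapping two points are conjugate to `t` and so invert the two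
point stabilizer. This excludes `i ≥ 3`, and leaves Zassenhaus groups.
-/

set_option autoImplicit false

namespace Cfsg.Agent.Lib.InvolutionFixity70

open MulAction

theorem orderOf_conj70 {G : Type*} [Group G] (g h : G) : orderOf (g * h * g⁻¹) = orderOf h :=
  orderOf_injective (MulAut.conj g).toMonoidHom (MulAut.conj g).injective h

/-- The number of fixed points. -/
noncomputable def fixN {G : Type*} (Ω : Type*) [Group G] [MulAction G Ω] (g : G) : ℕ :=
  Nat.card {x : Ω // g • x = x}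

/-- Some normal subgroup acts regularly. -/
def Reg (G Ω : Type*) [Group G] [MulAction G Ω] : Prop :=
  ∃ R : Subgroup G, R.Normal ∧ (∀ x y : Ω, ∃ r ∈ R, r • x = y) ∧
    ∀ x : Ω, ∀ r ∈ R, r • x = x → r = 1

variable {G Ω : Type*} [Group G] [MulAction G Ω]

/-- An involution all of whose commuting elements fix `i` points. -/
def Good (Ω : Type*) [MulAction G Ω] (i : ℕ) (t : G) : Prop :=
  orderOf t = 2 ∧ fixN Ω t = i ∧ ∀ g : G, Commute g t → g ≠ 1 → fixN Ω g = i

theorem fixN_conj (g h : G) : fixN Ω (g * h * g⁻¹) = fixN Ω h := by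
  refine Nat.card_congr ⟨fun x => ⟨g⁻¹ • x.1, ?_⟩, fun x => ⟨g • x.1, ?_⟩,
    fun x => Subtype.ext (smul_inv_smul g x.1), fun x => Subtype.ext (inv_smul_smul g x.1)⟩
  · have := x.2
    rw [mul_smul, mul_smul] at this
    exact eq_inv_smul_iff.2 this
  · rw [mul_smul, mul_smul, inv_smul_smul, x.2]

theorem Good.conj {i : ℕ} {t : G} (h : Good Ω i t) (g : G) : Good Ω i (g * t * g⁻¹) := by
  refine ⟨by rw [orderOf_conj70, h.1], by rw [fixN_conj, h.2.1], fun c hc hc1 => ?_⟩
  rw [← fixN_conj g⁻¹ c]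
  refine h.2.2 _ ?_ fun e => hc1 ?_
  · show g⁻¹ * c * g⁻¹⁻¹ * t = t * (g⁻¹ * c * g⁻¹⁻¹)
    calc g⁻¹ * c * g⁻¹⁻¹ * t = g⁻¹ * (c * (g * t * g⁻¹)) * g := by group
      _ = g⁻¹ * ((g * t * g⁻¹) * c) * g := by rw [hc.eq]
      _ = t * (g⁻¹ * c * g⁻¹⁻¹) := by group
  · calc c = g * (g⁻¹ * c * g⁻¹⁻¹) * g⁻¹ := by group
      _ = 1 := by rw [e]; group

/-- The class equation for one element. -/
theorem card_class {G : Type*} [Group G] (t : G) :
    Nat.card G = Nat.card {u : G // IsConj t u} *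
      Nat.card (Subgroup.centralizer ({t} : Set G)) := by
  have hu : ∀ u : {u : G // IsConj t u}, ∃ g : G, g * t * g⁻¹ = u.1 := fun u => isConj_iff.1 u.2
  choose τ hτ using hu
  rw [← Nat.card_prod]
  refine Nat.card_congr
    { toFun := fun g => (⟨g * t * g⁻¹, isConj_iff.2 ⟨g, rfl⟩⟩,
        ⟨(τ ⟨g * t * g⁻¹, isConj_iff.2 ⟨g, rfl⟩⟩)⁻¹ * g, ?_⟩)
      invFun := fun x => τ x.1 * x.2.1
      left_inv := fun g => mul_inv_cancel_left _ g
      right_inv := fun x => ?_ }
  · have e := hτ ⟨g * t * g⁻¹, isConj_iff.2 ⟨g, rfl⟩⟩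
    simp only at e
    set σ := τ ⟨g * t * g⁻¹, isConj_iff.2 ⟨g, rfl⟩⟩
    rw [Subgroup.mem_centralizer_singleton_iff]
    calc σ⁻¹ * g * t = σ⁻¹ * (g * t * g⁻¹) * g := by group
      _ = t * (σ⁻¹ * g) := by rw [← e]; group
  · obtain ⟨u, c⟩ := x
    have hc := Subgroup.mem_centralizer_singleton_iff.1 c.2
    have e1 : τ u * c.1 * t * (τ u * c.1)⁻¹ = u.1 := by
      calc τ u * c.1 * t * (τ u * c.1)⁻¹ = τ u * (c.1 * t) * c.1⁻¹ * (τ u)⁻¹ := by group
        _ = τ u * t * (τ u)⁻¹ := by rw [hc]; group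
        _ = u.1 := hτ u
    have e1' : (⟨τ u * c.1 * t * (τ u * c.1)⁻¹, isConj_iff.2 ⟨_, rfl⟩⟩ : {u : G // IsConj t u}) =
        u := Subtype.ext e1
    refine Prod.ext e1' (Subtype.ext ?_)
    show (τ _)⁻¹ * (τ u * c.1) = c.1
    rw [e1']
    exact inv_mul_cancel_left _ _

/-- The two-point stabilizer. -/
abbrev D (G : Type*) {Ω : Type*} [Group G] [MulAction G Ω] (a b : Ω) : Subgroup G :=
  stabilizer G a ⊓ stabilizer G b

variable [Finite Ω] {i : ℕ}

theorem two_le_fix {g : G} {a b : Ω} (hab : a ≠ b) (ha : g • a = a) (hb : g • b = b) :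
    2 ≤ fixN Ω g :=
  Finite.one_lt_card_iff_nontrivial.2 ⟨⟨⟨a, ha⟩, ⟨b, hb⟩, fun e => hab (congrArg Subtype.val e)⟩⟩

theorem three_le_fix {g : G} {a b c : Ω} (hab : a ≠ b) (hbc : b ≠ c) (hac : a ≠ c)
    (ha : g • a = a) (hb : g • b = b) (hc : g • c = c) : 3 ≤ fixN Ω g := by
  classical
  have := Fintype.ofFinite Ω
  rw [fixN, Nat.card_eq_fintype_card, Fintype.card_subtype]
  calc 3 = ({a, b, c} : Finset Ω).card := by
        rw [Finset.card_insert_of_notMem (by simp [hab, hac]), Finset.card_pair hbc]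
    _ ≤ _ := Finset.card_le_card fun x hx => by
        simp only [Finset.mem_insert, Finset.mem_singleton] at hx
        rcases hx with rfl | rfl | rfl <;> simp [ha, hb, hc]

section

variable [Finite G] [FaithfulSMul G Ω]

theorem exists_moved {g : G} (hg : g ≠ 1) : ∃ x : Ω, g • x ≠ x := by
  by_contra! h
  exact hg (eq_of_smul_eq_smul (α := Ω) fun x => by rw [h x, one_smul])

theorem fixN_lt {g : G} (hg : g ≠ 1) : fixN Ω g < Nat.card Ω := by
  classical
  have := Fintype.ofFinite Ω
  obtain ⟨x, hx⟩ := exists_moved (Ω := Ω) hg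
  rw [fixN, Nat.card_eq_fintype_card, Nat.card_eq_fintype_card]
  exact Fintype.card_subtype_lt (x := x) hx

/-- Orbit counting in the centralizer. -/
theorem card_centralizer_le {t : G} (h : Good Ω i t) :
    Nat.card (Subgroup.centralizer ({t} : Set G)) ≤ Nat.card Ω - i := by
  classical
  have := Fintype.ofFinite Ω
  set C := Subgroup.centralizer ({t} : Set G) with hC
  have := Fintype.ofFinite C
  haveI : Fintype (Quotient (orbitRel C Ω)) := Fintype.ofFinite _
  have hB := MulAction.sum_card_fixedBy_eq_card_orbits_mul_card_group C Ω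
  have hsum : ∀ c : C, Fintype.card (fixedBy Ω c) = fixN Ω (c : G) := fun c => by
    rw [fixN, Nat.card_eq_fintype_card]
    exact Fintype.card_congr (Equiv.refl _)
  rw [Finset.sum_congr rfl fun c _ => hsum c, ← Finset.add_sum_erase _ _ (Finset.mem_univ (1 : C)),
    Finset.sum_congr rfl (g := fun _ => i) fun (c : C) hc => h.2.2 (c : G)
      (Subgroup.mem_centralizer_singleton_iff.1 c.2)
      (fun e => (Finset.mem_erase.1 hc).1 (Subtype.ext e)),
    Finset.sum_const, Finset.card_erase_of_mem (Finset.mem_univ _), Finset.card_univ,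
    smul_eq_mul] at hB
  have h1 : fixN Ω ((1 : C) : G) = Nat.card Ω :=
    Nat.card_congr (Equiv.subtypeUnivEquiv fun x => one_smul G x)
  have hlt : i < Nat.card Ω := h.2.1 ▸ fixN_lt (fun e => by
    have := h.1; rw [e, orderOf_one] at this; omega)
  have hpos : 0 < Fintype.card C := Fintype.card_pos
  set o := Fintype.card (Quotient (orbitRel C Ω)) with ho
  rw [h1] at hB
  rw [Nat.card_eq_fintype_card (α := C)]
  have hd : Fintype.card C ∣ Nat.card Ω - i := by
    have e : o * Fintype.card C = (Nat.card Ω - i) + Fintype.card C * i := by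
      rw [← hB]
      obtain ⟨c, hc⟩ : ∃ c, Fintype.card C = c + 1 := ⟨Fintype.card C - 1, by omega⟩
      rw [hc, Nat.add_sub_cancel, add_mul, one_mul]
      omega
    exact (Nat.dvd_add_left (dvd_mul_right _ _)).1 (e ▸ dvd_mul_left _ o)
  exact Nat.le_of_dvd (by omega) hd

end

section

variable [Finite G] [FaithfulSMul G Ω] (h2 : IsMultiplyPretransitive G Ω 2) {t : G} (ht : Good Ω i t)

include h2 in
theorem pairs {a b c d : Ω} (hab : a ≠ b) (hcd : c ≠ d) : ∃ g : G, g • a = c ∧ g • b = d :=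
  is_two_pretransitive_iff.1 h2 hab hcd

include h2 in
theorem card_group {a b : Ω} (hab : a ≠ b) :
    Nat.card G = Nat.card {p : Ω × Ω // p.1 ≠ p.2} * Nat.card (D G a b) := by
  have hp : ∀ p : {p : Ω × Ω // p.1 ≠ p.2}, ∃ g : G, g • a = p.1.1 ∧ g • b = p.1.2 :=
    fun p => pairs h2 hab p.2
  choose σ hσ using hp
  have key : ∀ g : G, g • a ≠ g • b := fun g e => hab (smul_left_cancel g e)
  rw [← Nat.card_prod]
  refine Nat.card_congr
    { toFun := fun g => (⟨(g • a, g • b), key g⟩, ⟨(σ ⟨(g • a, g • b), key g⟩)⁻¹ * g, ?_, ?_⟩)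
      invFun := fun x => σ x.1 * x.2.1
      left_inv := fun g => mul_inv_cancel_left _ g
      right_inv := fun x => ?_ }
  · show _ • a = a
    rw [mul_smul, inv_smul_eq_iff, (hσ _).1]
  · show _ • b = b
    rw [mul_smul, inv_smul_eq_iff, (hσ _).2]
  · obtain ⟨⟨⟨p, q⟩, hpq⟩, d⟩ := x
    have e1 : (σ ⟨(p, q), hpq⟩ * d.1) • a = p := by
      rw [mul_smul, (show d.1 • a = a from d.2.1), (hσ _).1]
    have e2 : (σ ⟨(p, q), hpq⟩ * d.1) • b = q := by
      rw [mul_smul, (show d.1 • b = b from d.2.2), (hσ _).2]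
    refine Prod.ext (Subtype.ext (Prod.ext e1 e2)) (Subtype.ext ?_)
    show (σ ⟨((σ ⟨(p, q), hpq⟩ * d.1) • a, (σ ⟨(p, q), hpq⟩ * d.1) • b), _⟩)⁻¹ *
      (σ ⟨(p, q), hpq⟩ * d.1) = d.1
    simp only [e1, e2]
    exact inv_mul_cancel_left _ _

include h2 ht in
/-- All elements swapping two points are conjugate to `t`, and `|C(t)| = n - i`. -/
theorem key : (∀ (g : G) (a b : Ω), a ≠ b → g • a = b → g • b = a → IsConj t g) ∧
    Nat.card (Subgroup.centralizer ({t} : Set G)) = Nat.card Ω - i := by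
  classical
  have := Fintype.ofFinite Ω
  have := Fintype.ofFinite G
  set U := {u : G // IsConj t u} with hU
  set P := {p : Ω × Ω // p.1 ≠ p.2} with hP
  set C := Subgroup.centralizer ({t} : Set G) with hC
  -- the class of `t`
  have hcardU : Nat.card G = Nat.card U * Nat.card C := card_class t
  have hgood : ∀ u : U, Good Ω i u.1 := fun u => by
    obtain ⟨g, hg⟩ := isConj_iff.1 u.2
    exact hg ▸ ht.conj g
  obtain ⟨x₀, hx₀⟩ := exists_moved (Ω := Ω) (g := t) (fun e => by
    have := ht.1; rw [e, orderOf_one] at this; omega)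
  -- the double count
  have hcount : Nat.card U * (Nat.card Ω - i) =
      ∑ p : P, Nat.card {u : U // u.1 • p.1.1 = p.1.2} := by
    have e1 : (Σ u : U, {x : Ω // ¬ u.1 • x = x}) ≃ (Σ p : P, {u : U // u.1 • p.1.1 = p.1.2}) :=
      { toFun := fun z => ⟨⟨(z.2.1, z.1.1 • z.2.1), fun e => z.2.2 e.symm⟩, ⟨z.1, rfl⟩⟩
        invFun := fun z => ⟨z.2.1, ⟨z.1.1.1, fun e => z.1.2 (e.symm.trans z.2.2)⟩⟩
        left_inv := fun z => rfl
        right_inv := fun z => Sigma.subtype_ext (Subtype.ext (Prod.ext rfl z.2.2)) rfl }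
    have e2 := Nat.card_congr e1
    rw [Nat.card_sigma, Nat.card_sigma] at e2
    rw [← e2, Finset.sum_congr rfl (g := fun _ => Nat.card Ω - i) fun u _ => ?_]
    · rw [Finset.sum_const, Finset.card_univ, smul_eq_mul, Nat.card_eq_fintype_card]
    · rw [← (hgood u).2.1, fixN, Nat.card_eq_fintype_card, Nat.card_eq_fintype_card,
        Nat.card_eq_fintype_card, Fintype.card_subtype_compl]
  -- each pair
  have hle : ∀ p : P, Nat.card {u : U // u.1 • p.1.1 = p.1.2} ≤ Nat.card (D G x₀ (t • x₀)) := by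
    intro p
    obtain ⟨g, hg1, hg2⟩ := pairs h2 p.2 (Ne.symm hx₀)
    obtain ⟨s, hs1, hs2⟩ := pairs h2 (Ne.symm hx₀) hx₀
    have hinv : ∀ u : U, u.1 * u.1 = 1 := fun u => by
      rw [← pow_two, ← (hgood u).1, pow_orderOf_eq_one]
    refine Nat.card_le_card_of_injective
      (fun u => ⟨s⁻¹ * (g * u.1.1 * g⁻¹), ?_, ?_⟩) fun u v e => ?_
    · show _ • x₀ = x₀
      have hu : u.1.1 • p.1.1 = p.1.2 := u.2
      rw [mul_smul, inv_smul_eq_iff, hs1, mul_smul, mul_smul]
      conv_lhs => arg 2; arg 2; rw [← hg1, inv_smul_smul]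
      rw [hu, hg2]
    · show _ • (t • x₀) = t • x₀
      have hu : u.1.1 • p.1.2 = p.1.1 :=
        calc u.1.1 • p.1.2 = u.1.1 • (u.1.1 • p.1.1) := congrArg _ (u.2 : u.1.1 • p.1.1 = p.1.2).symm
          _ = p.1.1 := by rw [← mul_smul, hinv, one_smul]
      rw [mul_smul, inv_smul_eq_iff, hs2, mul_smul, mul_smul]
      conv_lhs => arg 2; arg 2; rw [← hg2, inv_smul_smul]
      rw [hu, hg1]
    · have e' := congrArg Subtype.val e
      simp only [mul_right_inj, mul_left_inj] at e'
      exact Subtype.ext (Subtype.ext e')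
  have hC_le := card_centralizer_le ht
  have hG := card_group h2 (Ne.symm hx₀)
  rw [hcardU] at hG
  have hsum : ∑ p : P, Nat.card {u : U // u.1 • p.1.1 = p.1.2} ≤
      Nat.card P * Nat.card (D G x₀ (t • x₀)) := by
    refine (Finset.sum_le_sum fun p _ => hle p).trans (le_of_eq ?_)
    rw [Finset.sum_const, Finset.card_univ, smul_eq_mul, Nat.card_eq_fintype_card (α := P)]
  have hUpos : 0 < Nat.card U := Nat.card_pos_iff.2 ⟨⟨⟨t, IsConj.refl t⟩⟩, inferInstance⟩
  have hCeq : Nat.card C = Nat.card Ω - i := by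
    refine le_antisymm hC_le (Nat.le_of_mul_le_mul_left ?_ hUpos)
    rw [hcount, hG]
    exact hsum
  refine ⟨?_, hCeq⟩
  have htotal : ∑ p : P, Nat.card {u : U // u.1 • p.1.1 = p.1.2} =
      ∑ _p : P, Nat.card (D G x₀ (t • x₀)) := by
    rw [← hcount, Finset.sum_const, Finset.card_univ, smul_eq_mul, ← Nat.card_eq_fintype_card,
      ← hCeq, hG]
  have heq := (Finset.sum_eq_sum_iff_of_le fun p _ => hle p).1 htotal
  intro g a b hab hga hgb
  have hD : Nat.card (D G a b) = Nat.card (D G x₀ (t • x₀)) := by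
    have h1 := card_group h2 hab
    rw [card_group h2 (Ne.symm hx₀)] at h1
    haveI : Nonempty P := ⟨⟨(a, b), hab⟩⟩
    exact (Nat.eq_of_mul_eq_mul_left Nat.card_pos h1).symm
  let f : {u : U // u.1 • a = b} → D G a b := fun u => ⟨g⁻¹ * u.1.1, by
      show _ • a = a
      rw [mul_smul, inv_smul_eq_iff, hga]
      exact u.2, by
      show _ • b = b
      rw [mul_smul, inv_smul_eq_iff, hgb]
      calc u.1.1 • b = u.1.1 • (u.1.1 • a) := congrArg _ (u.2 : u.1.1 • a = b).symm
        _ = a := by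
          rw [← mul_smul, show u.1.1 * u.1.1 = 1 by
            rw [← pow_two, ← (hgood u.1).1, pow_orderOf_eq_one], one_smul]⟩
  have hf : Function.Injective f := fun u v e => Subtype.ext (Subtype.ext
    (mul_left_cancel (congrArg Subtype.val e)))
  have hbij : Function.Bijective f := by
    refine (Nat.bijective_iff_injective_and_card f).2 ⟨hf, ?_⟩
    rw [hD]
    exact heq ⟨(a, b), hab⟩ (Finset.mem_univ _)
  obtain ⟨u, hu⟩ := hbij.2 1
  have : u.1.1 = g := by
    have e := congrArg Subtype.val hu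
    exact (inv_mul_eq_one.1 e).symm
  exact this ▸ u.1.2

include h2 ht in
theorem swap_good {g : G} {a b : Ω} (hab : a ≠ b) (hga : g • a = b) (hgb : g • b = a) :
    Good Ω i g := by
  obtain ⟨c, hc⟩ := isConj_iff.1 ((key h2 ht).1 g a b hab hga hgb)
  exact hc ▸ ht.conj c

include h2 ht in
theorem invol_isConj {u : G} (hu : orderOf u = 2) : IsConj t u := by
  obtain ⟨x, hx⟩ := exists_moved (Ω := Ω) (g := u) (fun e => by rw [e, orderOf_one] at hu; omega)
  refine (key h2 ht).1 u x (u • x) (Ne.symm hx) rfl ?_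
  rw [← mul_smul, ← pow_two, ← hu, pow_orderOf_eq_one, one_smul]

include h2 ht in
theorem invol_good {u : G} (hu : orderOf u = 2) : Good Ω i u := by
  obtain ⟨c, hc⟩ := isConj_iff.1 (invol_isConj h2 ht hu)
  exact hc ▸ ht.conj c

include h2 ht in
/-- A swap inverts the two-point stabilizer. -/
theorem swap_inverts {s : G} {a b : Ω} (hab : a ≠ b) (hsa : s • a = b) (hsb : s • b = a) {d : G}
    (hd : d ∈ D G a b) : s * d * s⁻¹ = d⁻¹ := by
  have h1 : s * s = 1 := by
    rw [← pow_two, ← (swap_good h2 ht hab hsa hsb).1, pow_orderOf_eq_one]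
  have hda : d • a = a := hd.1
  have hdb : d • b = b := hd.2
  have h3 : (s * d) * (s * d) = 1 := by
    rw [← pow_two, ← (swap_good h2 ht hab (g := s * d) (by rw [mul_smul, hda, hsa])
      (by rw [mul_smul, hdb, hsb])).1, pow_orderOf_eq_one]
  rw [inv_eq_of_mul_eq_one_right h1, eq_inv_iff_mul_eq_one]
  calc s * d * s * d = (s * d) * (s * d) := by group
    _ = 1 := h3

include h2 ht in
theorem D_comm {a b : Ω} (hab : a ≠ b) {d e : G} (hd : d ∈ D G a b) (he : e ∈ D G a b) :
    d * e = e * d := by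
  obtain ⟨s, hsa, hsb⟩ := pairs h2 hab hab.symm
  have h1 := swap_inverts h2 ht hab hsa hsb (mul_mem hd he)
  have h3 : s * (d * e) * s⁻¹ = d⁻¹ * e⁻¹ := by
    rw [← swap_inverts h2 ht hab hsa hsb hd, ← swap_inverts h2 ht hab hsa hsb he]
    group
  have := congrArg (fun x => x⁻¹) (h1.symm.trans h3)
  simpa [mul_inv_rev] using this

include h2 ht in
theorem exists_invol_D (hi : 2 ≤ i) {a b : Ω} (hab : a ≠ b) :
    ∃ u ∈ D G a b, orderOf u = 2 := by
  haveI : Nontrivial {x : Ω // t • x = x} := Finite.one_lt_card_iff_nontrivial.1 (by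
    show 1 < fixN Ω t
    rw [ht.2.1]; omega)
  obtain ⟨⟨x, hx⟩, ⟨y, hy⟩, hxy⟩ := exists_pair_ne {x : Ω // t • x = x}
  obtain ⟨g, hgx, hgy⟩ := pairs h2 (a := x) (b := y) (fun e => hxy (Subtype.ext e)) hab
  refine ⟨g * t * g⁻¹, ⟨?_, ?_⟩, by rw [orderOf_conj70, ht.1]⟩
  · show _ • a = a
    rw [← hgx, ← mul_smul, inv_mul_cancel_right, mul_smul, hx]
  · show _ • b = b
    rw [← hgy, ← mul_smul, inv_mul_cancel_right, mul_smul, hy]

include h2 ht in
/-- At least three fixed points are impossible. -/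
theorem le_two : i ≤ 2 := by
  classical
  by_contra! hi
  have := Fintype.ofFinite Ω
  set C := Subgroup.centralizer ({t} : Set G) with hC
  have hne : t ≠ 1 := fun e => by have := ht.1; rw [e, orderOf_one] at this; omega
  have htt : t * t = 1 := by rw [← pow_two, ← ht.1, pow_orderOf_eq_one]
  have hmemC : ∀ {g : G}, g ∈ C ↔ g * t = t * g := fun {g} => Subgroup.mem_centralizer_singleton_iff
  -- elements of order above two fix the fixed points of `t`
  have A1 : ∀ c ∈ C, c * c ≠ 1 → ∀ x : Ω, t • x = x → c • x = x := by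
    intro c hc hcc
    have hsub : ∀ x : Ω, c • x = x → t • x = x := by
      intro x hx
      by_contra htx
      have hcy : c • (t • x) = t • x := by
        rw [← mul_smul, hmemC.1 hc, mul_smul, hx]
      have h := swap_inverts h2 ht (Ne.symm htx) (s := t) rfl (by rw [← mul_smul, htt, one_smul])
        (d := c) ⟨hx, hcy⟩
      rw [← hmemC.1 hc, mul_inv_cancel_right] at h
      exact hcc (mul_eq_one_iff_eq_inv.2 h)
    have hfc : fixN Ω c = i := ht.2.2 c (hmemC.1 hc) fun e => hcc (by rw [e, one_mul])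
    intro x hx
    have hsurj : Function.Bijective (fun y : {y : Ω // c • y = y} =>
        (⟨y.1, hsub y.1 y.2⟩ : {y : Ω // t • y = y})) := by
      refine (Nat.bijective_iff_injective_and_card _).2 ⟨fun y z e => Subtype.ext
        (congrArg Subtype.val e :), ?_⟩
      show fixN Ω c = fixN Ω t
      rw [hfc, ht.2.1]
    obtain ⟨y, hy⟩ := hsurj.2 ⟨x, hx⟩
    have : y.1 = x := congrArg Subtype.val hy
    exact this ▸ y.2
  -- swaps inside `C`
  have hswap : ∀ x y : Ω, t • x = x → t • y = y → x ≠ y → ∃ s ∈ C, s • x = y ∧ s • y = x := by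
    intro x y hx hy hxy
    obtain ⟨s, hs1, hs2⟩ := pairs h2 hxy hxy.symm
    refine ⟨s, hmemC.2 ?_, hs1, hs2⟩
    have h := swap_inverts h2 ht hxy hs1 hs2 (d := t) ⟨hx, hy⟩
    rw [inv_eq_of_mul_eq_one_right htt, mul_inv_eq_iff_eq_mul] at h
    exact h
  obtain ⟨a, b, c, hab, hac, hbc⟩ := Fintype.two_lt_card_iff.1 (show
      2 < Fintype.card {x : Ω // t • x = x} by
    rw [← Nat.card_eq_fintype_card]; show 2 < fixN Ω t; rw [ht.2.1]; exact hi)
  have hab' : a.1 ≠ b.1 := fun e => hab (Subtype.ext e)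
  have hac' : a.1 ≠ c.1 := fun e => hac (Subtype.ext e)
  have hbc' : b.1 ≠ c.1 := fun e => hbc (Subtype.ext e)
  by_cases hex : ∃ k ∈ C, k * k ≠ 1
  · obtain ⟨k, hkC, hk⟩ := hex
    have hout : ∀ s ∈ C, ∀ x : Ω, t • x = x → s • x ≠ x → s * s = 1 ∧ s * k * s⁻¹ = k⁻¹ := by
      intro s hs x hx hsx
      have h1 : s * s = 1 := by
        by_contra hne'
        exact hsx (A1 s hs hne' x hx)
      refine ⟨h1, ?_⟩
      have h3 : (s * k) * (s * k) = 1 := by
        by_contra hne'
        refine hsx ?_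
        have := A1 (s * k) (mul_mem hs hkC) hne' x hx
        rwa [mul_smul, A1 k hkC hk x hx] at this
      rw [inv_eq_of_mul_eq_one_right h1, eq_inv_iff_mul_eq_one]
      calc s * k * s * k = (s * k) * (s * k) := by group
        _ = 1 := h3
    obtain ⟨s1, hs1C, hs1a, hs1b⟩ := hswap a b a.2 b.2 hab'
    obtain ⟨s2, hs2C, hs2a, hs2c⟩ := hswap a c a.2 c.2 hac'
    have h1 := hout s1 hs1C a a.2 (by rw [hs1a]; exact hab'.symm)
    have h2' := hout s2 hs2C a a.2 (by rw [hs2a]; exact hac'.symm)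
    have h3 : (s2 * s1) • (b : Ω) = c := by rw [mul_smul, hs1b, hs2a]
    have h4 := (hout (s2 * s1) (mul_mem hs2C hs1C) b b.2 (by rw [h3]; exact hbc'.symm)).2
    have h5 : (s2 * s1) * k * (s2 * s1)⁻¹ = k := by
      calc (s2 * s1) * k * (s2 * s1)⁻¹ = s2 * (s1 * k * s1⁻¹) * s2⁻¹ := by group
        _ = (s2 * k * s2⁻¹)⁻¹ := by rw [h1.2]; group
        _ = k := by rw [h2'.2, inv_inv]
    exact hk (mul_eq_one_iff_eq_inv.2 (h5.symm.trans h4))
  · push Not at hex
    -- the centralizer is elementary abelian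
    have hcommC : ∀ g ∈ C, ∀ h ∈ C, g * h = h * g := by
      intro g hg h hh
      have e1 := hex g hg
      have e2 := hex h hh
      have e3 := hex (g * h) (mul_mem hg hh)
      calc g * h = g * (g * h * (g * h)) * h := by rw [e3]; group
        _ = (g * g) * h * g * (h * h) := by group
        _ = h * g := by rw [e1, e2]; group
    have hDC : ∀ g, g ∈ D G a.1 b.1 → g ∈ C := fun g hg =>
      hmemC.2 (D_comm h2 ht hab' hg ⟨a.2, b.2⟩)
    have hDfix : ∀ g, g ∈ D G a.1 b.1 → ∀ x : Ω, t • x = x → g • x = x := by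
      intro g hg x hx
      rcases eq_or_ne a.1 x with rfl | hax
      · exact hg.1
      obtain ⟨s, hsC, hsa, -⟩ := hswap a x a.2 hx hax
      rw [← hsa, ← mul_smul, hcommC g (hDC g hg) s hsC, mul_smul, (show g • a.1 = a.1 from hg.1)]
    -- the centralizer is regular on the fixed points modulo the two-point stabilizer
    have hcardC : Nat.card C = i * Nat.card (D G a.1 b.1) := by
      have hsel : ∀ x : {x : Ω // t • x = x}, ∃ s ∈ C, s • a.1 = x.1 := fun x => by
        rcases eq_or_ne a.1 x.1 with e | e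
        · exact ⟨1, one_mem _, by rw [one_smul, e]⟩
        · obtain ⟨s, hs, hsa, -⟩ := hswap a x a.2 x.2 e
          exact ⟨s, hs, hsa⟩
      choose σ hσC hσ using hsel
      have hb : ∀ g ∈ C, t • (g • a.1) = g • a.1 := fun g hg => by
        rw [← mul_smul, ← hmemC.1 hg, mul_smul, a.2]
      have hst : ∀ g ∈ C, g • a.1 = a.1 → g ∈ D G a.1 b.1 := by
        intro g hg hga
        refine ⟨hga, ?_⟩
        obtain ⟨s, hsC, hsa, -⟩ := hswap a b a.2 b.2 hab'
        show g • b.1 = b.1
        rw [← hsa, ← mul_smul, hcommC g hg s hsC, mul_smul, hga]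
      rw [← ht.2.1, fixN, ← Nat.card_prod]
      refine Nat.card_congr
        { toFun := fun g => (⟨g.1 • a.1, hb g.1 g.2⟩, ⟨(σ ⟨g.1 • a.1, hb g.1 g.2⟩)⁻¹ * g.1,
            hst _ (mul_mem (inv_mem (hσC _)) g.2) (by rw [mul_smul, inv_smul_eq_iff, hσ])⟩)
          invFun := fun x => ⟨σ x.1 * x.2.1, mul_mem (hσC _) (hDC _ x.2.2)⟩
          left_inv := fun g => Subtype.ext (mul_inv_cancel_left _ g.1)
          right_inv := fun x => ?_ }
      obtain ⟨x, d⟩ := x
      have e1 : (σ x * d.1) • a.1 = x.1 := by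
        rw [mul_smul, (show d.1 • a.1 = a.1 from d.2.1), hσ]
      have e1' : (⟨(σ x * d.1) • a.1, hb _ (mul_mem (hσC _) (hDC _ d.2))⟩ :
          {x : Ω // t • x = x}) = x := Subtype.ext e1
      refine Prod.ext e1' (Subtype.ext ?_)
      show (σ _)⁻¹ * (σ x * d.1) = d.1
      rw [e1']
      exact inv_mul_cancel_left _ _
    -- the blocks through `a`
    let Φ : {x : Ω // x ≠ a.1} → Subgroup G := fun x => D G a.1 x.1
    have hfib : ∀ x : {x : Ω // x ≠ a.1}, (Finset.univ.filter fun y => Φ y = Φ x).card = i - 1 := by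
      intro x
      obtain ⟨g, hga, hgb⟩ := pairs h2 hab' x.2.symm
      -- the class of `x` is the image of the fixed points of `t`
      have hmap : ∀ d, d ∈ D G a.1 x.1 ↔ g⁻¹ * d * g ∈ D G a.1 b.1 := by
        intro d
        constructor
        · rintro ⟨h1, h3⟩
          exact ⟨show _ • a.1 = a.1 by
              rw [mul_smul, mul_smul, hga, (h1 : d • a.1 = a.1), inv_smul_eq_iff, hga],
            show _ • b.1 = b.1 by
              rw [mul_smul, mul_smul, hgb, (h3 : d • x.1 = x.1), inv_smul_eq_iff, hgb]⟩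
        · rintro ⟨h1, h3⟩
          have h1' : (g⁻¹ * d * g) • a.1 = a.1 := h1
          have h3' : (g⁻¹ * d * g) • b.1 = b.1 := h3
          rw [mul_smul, mul_smul, hga, inv_smul_eq_iff, hga] at h1'
          rw [mul_smul, mul_smul, hgb, inv_smul_eq_iff, hgb] at h3'
          exact ⟨h1', h3'⟩
      have key' : ∀ y : {x : Ω // x ≠ a.1}, Φ y = Φ x ↔ t • (g⁻¹ • y.1) = g⁻¹ • y.1 := by
        intro y
        constructor
        · intro e
          have hm : g * t * g⁻¹ ∈ Φ x := (hmap _).2 (by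
            rw [show g⁻¹ * (g * t * g⁻¹) * g = t by group]; exact ⟨a.2, b.2⟩)
          rw [← e] at hm
          have h3 : (g * t * g⁻¹) • y.1 = y.1 := hm.2
          rw [mul_smul, mul_smul] at h3
          exact eq_inv_smul_iff.2 h3
        · intro hy
          have hle : D G a.1 x.1 ≤ D G a.1 y.1 := by
            intro d hd
            have h1 := hDfix _ ((hmap d).1 hd) _ hy
            rw [mul_smul, mul_smul, smul_inv_smul, inv_smul_eq_iff, smul_inv_smul] at h1
            exact ⟨hd.1, h1⟩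
          symm
          show D G a.1 x.1 = D G a.1 y.1
          refine Subgroup.eq_of_le_of_card_ge hle (le_of_eq ?_)
          have e1 := card_group h2 x.2.symm
          rw [card_group h2 y.2.symm] at e1
          haveI : Nonempty {p : Ω × Ω // p.1 ≠ p.2} := ⟨⟨(a.1, b.1), hab'⟩⟩
          exact Nat.eq_of_mul_eq_mul_left Nat.card_pos e1
      rw [show i - 1 = Fintype.card {z : {x : Ω // t • x = x} // z ≠ a} by
        rw [Fintype.card_subtype_compl, Fintype.card_subtype_eq, ← Nat.card_eq_fintype_card]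
        exact (congrArg (· - 1) ht.2.1).symm, ← Fintype.card_subtype]
      refine Fintype.card_congr
        { toFun := fun y => ⟨⟨g⁻¹ • y.1.1, (key' y.1).1 y.2⟩, fun e => y.1.2 ?_⟩
          invFun := fun z => ⟨⟨g • z.1.1, fun e => z.2 (Subtype.ext ?_)⟩,
            (key' _).2 (by rw [inv_smul_smul, z.1.2])⟩
          left_inv := fun y => Subtype.ext (Subtype.ext (smul_inv_smul g y.1.1))
          right_inv := fun z => Subtype.ext (Subtype.ext (inv_smul_smul g z.1.1)) }
      · have e' : g⁻¹ • y.1.1 = a.1 := congrArg Subtype.val e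
        rw [inv_smul_eq_iff, hga] at e'
        exact e'
      · exact smul_left_cancel g (e.trans hga.symm)
    have hdvd : i - 1 ∣ Nat.card Ω - 1 := by
      have h := Finset.card_eq_sum_card_image Φ (Finset.univ : Finset {x : Ω // x ≠ a.1})
      rw [Finset.sum_congr rfl (g := fun _ => i - 1) fun K hK => ?_, Finset.sum_const,
        smul_eq_mul, Finset.card_univ, Fintype.card_subtype_compl, Fintype.card_subtype_eq,
        ← Nat.card_eq_fintype_card] at h
      · exact ⟨_, h.trans (mul_comm _ _)⟩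
      · obtain ⟨x, -, rfl⟩ := Finset.mem_image.1 hK
        exact hfib x
    -- the involutions of the two-point stabilizer: `|D| = i`
    have hDi : Nat.card (D G a.1 b.1) = i := by
      have := Fintype.ofFinite G
      -- pairs of fixed points of the involutions
      let U := {u : G // orderOf u = 2}
      let P := {p : Ω × Ω // p.1 ≠ p.2}
      have hD1 : ∀ p : P, Nat.card {u : U // u.1 ∈ D G p.1.1 p.1.2} =
          Nat.card (D G a.1 b.1) - 1 := by
        intro p
        obtain ⟨g, hg1, hg2⟩ := pairs h2 p.2 hab'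
        have hcg : Nat.card (D G p.1.1 p.1.2) = Nat.card (D G a.1 b.1) := by
          have h1 := card_group h2 p.2
          rw [card_group h2 hab'] at h1
          haveI : Nonempty P := ⟨p⟩
          exact (Nat.eq_of_mul_eq_mul_left Nat.card_pos h1).symm
        rw [← hcg, Nat.card_eq_fintype_card, Nat.card_eq_fintype_card,
          ← Fintype.card_subtype_eq (1 : D G p.1.1 p.1.2), ← Fintype.card_subtype_compl]
        have hsq : ∀ d, d ∈ D G p.1.1 p.1.2 → d * d = 1 := by
          intro d hd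
          have hm : g * d * g⁻¹ ∈ D G a.1 b.1 := ⟨show _ • a.1 = a.1 by
              rw [← hg1, ← mul_smul, inv_mul_cancel_right, mul_smul, (hd.1 : d • _ = _)],
            show _ • b.1 = b.1 by
              rw [← hg2, ← mul_smul, inv_mul_cancel_right, mul_smul, (hd.2 : d • _ = _)]⟩
          have h1 := hex _ (hDC _ hm)
          calc d * d = g⁻¹ * ((g * d * g⁻¹) * (g * d * g⁻¹)) * g := by group
            _ = 1 := by rw [h1]; group
        exact Fintype.card_congr
          { toFun := fun u => ⟨⟨u.1.1, u.2⟩, fun e => by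
              have h' : u.1.1 = 1 := congrArg Subtype.val e
              have := u.1.2
              rw [h', orderOf_one] at this
              omega⟩
            invFun := fun d => ⟨⟨d.1.1, orderOf_eq_prime (by rw [pow_two]; exact hsq _ d.1.2)
              (fun e => d.2 (Subtype.ext e))⟩, d.1.2⟩
            left_inv := fun u => rfl
            right_inv := fun d => rfl }
      have e1 : (Σ u : U, {q : {x : Ω // u.1 • x = x} × {x : Ω // u.1 • x = x} // q.1 ≠ q.2}) ≃
          (Σ p : P, {u : U // u.1 ∈ D G p.1.1 p.1.2}) :=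
        { toFun := fun z => ⟨⟨(z.2.1.1.1, z.2.1.2.1), fun e => z.2.2 (Subtype.ext e)⟩,
            ⟨z.1, z.2.1.1.2, z.2.1.2.2⟩⟩
          invFun := fun z => ⟨z.2.1, ⟨(⟨z.1.1.1, z.2.2.1⟩, ⟨z.1.1.2, z.2.2.2⟩),
            fun e => z.1.2 (congrArg Subtype.val e)⟩⟩
          left_inv := fun z => rfl
          right_inv := fun z => rfl }
      have e2 := Nat.card_congr e1
      rw [Nat.card_sigma, Nat.card_sigma, Finset.sum_congr rfl fun p _ => hD1 p,
        Finset.sum_const, Finset.card_univ, smul_eq_mul,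
        Finset.sum_congr rfl (g := fun _ => i * i - i) fun u _ => ?_, Finset.sum_const,
        Finset.card_univ, smul_eq_mul] at e2
      swap
      · have hfu := (invol_good h2 ht u.2).2.1
        rw [fixN, Nat.card_eq_fintype_card] at hfu
        rw [Nat.card_eq_fintype_card, ← hfu, Fintype.card_subtype_compl, Fintype.card_prod]
        congr 1
        exact Fintype.card_congr
          { toFun := fun q => q.1.1, invFun := fun x => ⟨(x, x), rfl⟩,
            left_inv := fun q => Subtype.ext (Prod.ext rfl q.2), right_inv := fun x => rfl }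
      have hU : Nat.card G = Fintype.card U * Nat.card C := by
        rw [← Nat.card_eq_fintype_card, card_class t]
        congr 1
        exact Nat.card_congr (Equiv.subtypeEquivRight fun u => ⟨fun h => by
          obtain ⟨c, hc⟩ := isConj_iff.1 h
          rw [← hc, orderOf_conj70, ht.1], fun h => invol_isConj h2 ht h⟩)
      have h3 := card_group h2 hab'
      rw [hU, hcardC] at h3
      rw [Nat.card_eq_fintype_card (α := P)] at h3
      set dd := Nat.card (D G a.1 b.1) with hdd
      have hd0 : 0 < dd := Nat.card_pos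
      -- `|P| (dd - 1) = |U| i (i - 1)` and `|U| i dd = |P| dd`
      have h4 : Fintype.card U * i = Fintype.card P := by
        refine Nat.eq_of_mul_eq_mul_right hd0 ?_
        rw [← h3]; ring
      obtain ⟨j, rfl⟩ : ∃ j, i = j + 1 := ⟨i - 1, by omega⟩
      have h5 : Fintype.card P * (dd - 1) = Fintype.card P * j := by
        rw [← e2, ← h4, show (j + 1) * (j + 1) - (j + 1) = (j + 1) * j by
          rw [Nat.sub_eq_iff_eq_add (by nlinarith)]; ring]
        ring
      have hPpos : 0 < Fintype.card P := Fintype.card_pos_iff.2 ⟨⟨(a.1, b.1), hab'⟩⟩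
      have := Nat.eq_of_mul_eq_mul_left hPpos h5
      omega
    have hn := (key h2 ht).2
    rw [← hC, hcardC, hDi] at hn
    have hlt : i < Nat.card Ω := ht.2.1 ▸ fixN_lt hne
    have hn' : Nat.card Ω - 1 = i * i + (i - 1) := by omega
    rw [hn', Nat.dvd_add_left dvd_rfl] at hdvd
    obtain ⟨j, rfl⟩ : ∃ j, i = j + 1 := ⟨i - 1, by omega⟩
    rw [Nat.add_sub_cancel, show (j + 1) * (j + 1) = j * (j + 2) + 1 by ring,
      Nat.dvd_add_right (dvd_mul_right _ _), Nat.dvd_one] at hdvd
    omega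

include h2 in
theorem transitive_of_normal {M : Subgroup G} [M.Normal] (hM : M ≠ ⊥) (x y : Ω) :
    ∃ m ∈ M, m • x = y := by
  rcases eq_or_ne x y with rfl | hxy
  · exact ⟨1, one_mem _, one_smul _ _⟩
  obtain ⟨m, hm, hm1⟩ : ∃ m ∈ M, m ≠ 1 := by
    by_contra! hc
    exact hM ((Subgroup.eq_bot_iff_forall _).2 hc)
  obtain ⟨z, hz⟩ : ∃ z : Ω, m • z ≠ z := by
    by_contra! hall
    exact hm1 (eq_of_smul_eq_smul (α := Ω) fun z => by rw [hall z, one_smul])
  obtain ⟨g, hg1, hg2⟩ := pairs h2 (Ne.symm hz) hxy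
  refine ⟨g * m * g⁻¹, ‹M.Normal›.conj_mem m hm g, ?_⟩
  rw [← hg1, ← mul_smul, inv_mul_cancel_right, mul_smul, hg2]

include h2 in
theorem reg_of_odd_normal {N : Subgroup G} [N.Normal] (hN : Odd (Nat.card N)) (hne : N ≠ ⊥) :
    Reg G Ω := by
  haveI := Cfsg.Agent.S0205.result hN
  obtain ⟨M, hMn, hMne, hMle, hmin⟩ :=
    MinimalNormal.exists_minimal_normal_le (M := N) inferInstance hne
  haveI := hMn
  haveI : Group.IsSolvable M :=
    Group.isSolvable_of_isSolvable_injective (f := Subgroup.inclusion hMle) (Subgroup.inclusion_injective hMle)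
  obtain ⟨hMc, -⟩ := MinimalNormal.elementaryAbelian M hMne hmin
  refine ⟨M, hMn, transitive_of_normal h2 hMne, fun x r hr hrx => ?_⟩
  refine eq_of_smul_eq_smul (α := Ω) fun y => ?_
  obtain ⟨m, hm, rfl⟩ := transitive_of_normal h2 hMne x y
  have hcomm : r * m = m * r := congrArg Subtype.val (hMc.is_comm.comm (⟨r, hr⟩ : M) ⟨m, hm⟩)
  rw [one_smul, ← mul_smul, hcomm, mul_smul, hrx]

include h2 ht in
/-- Without regular normal subgroups no non-identity element fixes three points. -/
theorem no_three (hnR : ¬ Reg G Ω) : ∀ g : G, ∀ a b c : Ω, a ≠ b → b ≠ c → a ≠ c →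
    g • a = a → g • b = b → g • c = c → g = 1 := by
  classical
  intro g₀ a b c hab hbc hac ha hb hc
  by_contra hg
  have hi := le_two h2 ht
  -- an element of prime order
  obtain ⟨d, hd1, hda, hdb, hdc⟩ : ∃ d : G, d ≠ 1 ∧ d • a = a ∧ d • b = b ∧ d • c = c :=
    ⟨g₀, hg, ha, hb, hc⟩
  have hnone : ∀ u : G, orderOf u = 2 → ¬ Commute d u := fun u hu hcm => by
    have := (invol_good h2 ht hu).2.2 d hcm hd1
    have := three_le_fix hab hbc hac hda hdb hdc
    omega
  -- no involution in the two-point stabilizer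
  have hi1 : i ≤ 1 := by
    by_contra! hi2
    obtain ⟨u, hu, hu2⟩ := exists_invol_D h2 ht (by omega) hab
    exact hnone u hu2 (D_comm h2 ht hab (⟨hda, hdb⟩ : d ∈ D G a b) hu)
  set C := Subgroup.centralizer ({d} : Set G) with hC
  have hCodd : Odd (Nat.card C) := by
    rw [← Nat.not_even_iff_odd, even_iff_two_dvd]
    intro h
    haveI : Fact (Nat.Prime 2) := ⟨Nat.prime_two⟩
    obtain ⟨u, hu⟩ := exists_prime_orderOf_dvd_card' (G := C) 2 h
    exact hnone u.1 ((Subgroup.orderOf_coe u).trans hu)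
      (Subgroup.mem_centralizer_singleton_iff.1 u.2).symm
  set F := {x : Ω // d • x = x} with hF
  have hswap : ∀ x y : F, x ≠ y → ∃ u : G, Good Ω i u ∧ u • x.1 = y.1 ∧ u • y.1 = x.1 ∧
      u * d * u⁻¹ = d⁻¹ := by
    intro x y hxy
    have hxy' : x.1 ≠ y.1 := fun e => hxy (Subtype.ext e)
    obtain ⟨u, h1, h3⟩ := pairs h2 hxy' hxy'.symm
    exact ⟨u, swap_good h2 ht hxy' h1 h3, h1, h3, swap_inverts h2 ht hxy' h1 h3 ⟨x.2, y.2⟩⟩
  have hF3 : 3 ≤ Nat.card F := three_le_fix hab hbc hac hda hdb hdc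
  letI act : MulAction C F :=
    { smul := fun k x => ⟨k.1 • x.1, by
        rw [← mul_smul, ← Subgroup.mem_centralizer_singleton_iff.1 k.2, mul_smul, x.2]⟩
      one_smul := fun x => Subtype.ext (one_smul G x.1)
      mul_smul := fun k l x => Subtype.ext (mul_smul k.1 l.1 x.1) }
  haveI : IsPretransitive C F := by
    refine ⟨fun y z => ?_⟩
    rcases eq_or_ne y z with rfl | hyz
    · exact ⟨1, one_smul C y⟩
    obtain ⟨x, hxy, hxz⟩ : ∃ x : F, x ≠ y ∧ x ≠ z := by
      have := Fintype.ofFinite F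
      obtain ⟨x, -, hx⟩ := Finset.exists_mem_notMem_of_card_lt_card (s := ({y, z} : Finset F))
        (t := Finset.univ) (Finset.card_le_two.trans_lt (by
          rw [Finset.card_univ, ← Nat.card_eq_fintype_card]; omega))
      simp only [Finset.mem_insert, Finset.mem_singleton, not_or] at hx
      exact ⟨x, hx⟩
    obtain ⟨u, -, hux, huy, hu⟩ := hswap x y hxy
    obtain ⟨v, -, hvx, -, hv⟩ := hswap x z hxz
    refine ⟨⟨v * u, Subgroup.mem_centralizer_singleton_iff.2 ?_⟩, Subtype.ext ?_⟩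
    · rw [← mul_inv_eq_iff_eq_mul]
      calc v * u * d * (v * u)⁻¹ = v * (u * d * u⁻¹) * v⁻¹ := by group
        _ = (v * d * v⁻¹)⁻¹ := by rw [hu]; group
        _ = d := by rw [hv, inv_inv]
    · show (v * u) • y.1 = z.1
      rw [mul_smul, huy, hvx]
  obtain ⟨x, y, hxy⟩ : ∃ x y : F, x ≠ y := ⟨⟨a, hda⟩, ⟨b, hdb⟩, fun e => hab (congrArg Subtype.val e)⟩
  have hFodd : Odd (Nat.card F) := by
    have h := Subgroup.card_mul_index (stabilizer C x)
    rw [index_stabilizer_of_transitive] at h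
    exact hCodd.of_dvd_nat ⟨_, (h.symm.trans (mul_comm _ _))⟩
  obtain ⟨u, hug, hux, huy, hu⟩ := hswap x y hxy
  have huF : ∀ z : F, d • (u • z.1) = u • z.1 := fun z => by
    have e : d * u = u * d⁻¹ := by
      rw [show d⁻¹ = u⁻¹ * d * u from ?_]
      · group
      · have := congrArg (fun w => (u⁻¹ * w * u)⁻¹) hu
        simpa [mul_assoc] using this
    rw [← mul_smul, e, mul_smul]
    exact congrArg _ (inv_smul_eq_iff.2 z.2.symm)
  have hu1 : u * u = 1 := by rw [← pow_two, ← hug.1, pow_orderOf_eq_one]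
  obtain ⟨w, hw⟩ : ∃ w : F, u • w.1 = w.1 := by
    let π : Equiv.Perm F :=
      { toFun := fun z => ⟨u • z.1, huF z⟩
        invFun := fun z => ⟨u • z.1, huF z⟩
        left_inv := fun z => Subtype.ext (by show u • u • z.1 = z.1; rw [← mul_smul, hu1, one_smul])
        right_inv := fun z => Subtype.ext (by show u • u • z.1 = z.1; rw [← mul_smul, hu1, one_smul]) }
    haveI : Fact (Nat.Prime 2) := ⟨Nat.prime_two⟩
    have := Fintype.ofFinite F
    obtain ⟨w, hw⟩ := Equiv.Perm.exists_fixed_point_of_prime (p := 2) (n := 1)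
      (by rw [← Nat.card_eq_fintype_card, ← even_iff_two_dvd]; exact Nat.not_even_iff_odd.2 hFodd)
      (σ := π) (Equiv.ext fun z => Subtype.ext (by
        show u • u • z.1 = z.1; rw [← mul_smul, hu1, one_smul]))
    exact ⟨w, congrArg Subtype.val hw⟩
  have hi1' : i = 1 := by
    haveI : Nonempty {z : Ω // u • z = z} := ⟨⟨w.1, hw⟩⟩
    have : 0 < fixN Ω u := Nat.card_pos
    rw [hug.2.1] at this
    omega
  subst hi1'
  have huniq : ∀ {v : G}, orderOf v = 2 → ∀ p q : Ω, v • p = p → v • q = q → p = q := by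
    intro v hv p q hp hq
    by_contra hne
    have := two_le_fix (Ω := Ω) hne hp hq
    rw [(invol_good h2 ht hv).2.1] at this
    omega
  -- all involutions fixing `w` invert `d`
  obtain ⟨x', hx'⟩ : ∃ x' : F, x' ≠ w := by
    rcases eq_or_ne x w with rfl | h
    · exact ⟨y, hxy.symm⟩
    · exact ⟨x, h⟩
  have hx'w : x'.1 ≠ w.1 := fun e => hx' (Subtype.ext e)
  have hinvert : ∀ v : G, orderOf v = 2 → v • w.1 = w.1 → v * d * v⁻¹ = d⁻¹ := by
    intro v hv hvw
    obtain ⟨g, hg⟩ := isConj_iff.1 ((invol_isConj h2 ht hug.1).symm.trans (invol_isConj h2 ht hv))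
    have hgw : g • w.1 = w.1 := (huniq hv _ _ hvw (by
      rw [← hg, mul_smul, mul_smul, inv_smul_smul, hw])).symm
    have hCu : ∀ e : Subgroup.centralizer ({u} : Set G), e.1 • x'.1 ≠ w.1 := by
      intro e he
      have hew : e.1 • w.1 = w.1 := (huniq hug.1 _ _ hw (by
        rw [← mul_smul, ← Subgroup.mem_centralizer_singleton_iff.1 e.2, mul_smul, hw])).symm
      exact hx'w (smul_left_cancel e.1 (he.trans hew.symm))
    have hbij : Function.Bijective (fun e : Subgroup.centralizer ({u} : Set G) =>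
        (⟨e.1 • x'.1, hCu e⟩ : {z : Ω // z ≠ w.1})) := by
      refine (Nat.bijective_iff_injective_and_card _).2 ⟨fun e e' he => ?_, ?_⟩
      · have he' : e.1 • x'.1 = e'.1 • x'.1 := congrArg Subtype.val he
        by_contra hne
        have hm := (e'⁻¹ * e).2
        have hne1 : ((e'⁻¹ * e : Subgroup.centralizer ({u} : Set G)) : G) ≠ 1 := fun h1 =>
          hne (inv_mul_eq_one.1 (Subtype.ext h1)).symm
        have hfx : ((e'⁻¹ * e : Subgroup.centralizer ({u} : Set G)) : G) • x'.1 = x'.1 := by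
          rw [Subgroup.coe_mul, Subgroup.coe_inv, mul_smul, he', inv_smul_smul]
        have hfw : ((e'⁻¹ * e : Subgroup.centralizer ({u} : Set G)) : G) • w.1 = w.1 :=
          huniq hug.1 _ _ (by
            rw [← mul_smul, ← Subgroup.mem_centralizer_singleton_iff.1 hm, mul_smul, hw]) hw
        have := two_le_fix (Ω := Ω) hx'w hfx hfw
        rw [hug.2.2 _ (Subgroup.mem_centralizer_singleton_iff.1 hm) hne1] at this
        omega
      · have hu' := (key h2 hug).2
        have := Fintype.ofFinite Ω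
        rw [hu', Nat.card_eq_fintype_card, Nat.card_eq_fintype_card, Fintype.card_subtype_compl,
          Fintype.card_subtype_eq]
    obtain ⟨e, he⟩ := hbij.2 ⟨g⁻¹ • x'.1, fun e' => hx'w (by
      rw [inv_smul_eq_iff, hgw] at e'; exact e')⟩
    have hex' : e.1 • x'.1 = g⁻¹ • x'.1 := congrArg Subtype.val he
    have hew : e.1 • w.1 = w.1 := huniq hug.1 _ _ (by
      rw [← mul_smul, ← Subgroup.mem_centralizer_singleton_iff.1 e.2, mul_smul, hw]) hw
    have hm : g * e.1 ∈ D G w.1 x'.1 := ⟨show _ • w.1 = w.1 by rw [mul_smul, hew, hgw],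
      show _ • x'.1 = x'.1 by rw [mul_smul, hex', smul_inv_smul]⟩
    have hcd : Commute (g * e.1) d := D_comm h2 ht hx'w.symm hm ⟨w.2, x'.2⟩
    have hv' : v = (g * e.1) * u * (g * e.1)⁻¹ := by
      rw [← hg]
      calc g * u * g⁻¹ = g * (e.1 * u) * e.1⁻¹ * g⁻¹ := by
            rw [Subgroup.mem_centralizer_singleton_iff.1 e.2]; group
        _ = g * e.1 * u * (g * e.1)⁻¹ := by group
    rw [hv']
    calc g * e.1 * u * (g * e.1)⁻¹ * d * (g * e.1 * u * (g * e.1)⁻¹)⁻¹
        = (g * e.1) * (u * ((g * e.1)⁻¹ * d * (g * e.1)) * u⁻¹) * (g * e.1)⁻¹ := by group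
      _ = (g * e.1) * (u * d * u⁻¹) * (g * e.1)⁻¹ := by
          rw [mul_assoc (g * e.1)⁻¹ d, ← hcd.eq, inv_mul_cancel_left]
      _ = d⁻¹ := by rw [hu, hcd.inv_right.eq, mul_inv_cancel_right]
  -- so no two involutions commute
  have hnc : ∀ p q : G, orderOf p = 2 → orderOf q = 2 → Commute p q → p = q := by
    intro p q hp hq hpq
    by_contra hne
    obtain ⟨⟨z, hz⟩⟩ : Nonempty {z : Ω // p • z = z} := (Nat.card_pos_iff.1 (by
      show 0 < fixN Ω p
      rw [(invol_good h2 ht hp).2.1]; omega)).1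
    have hqz : q • z = z := huniq hp _ _ (by rw [← mul_smul, hpq.eq, mul_smul, hz]) hz
    obtain ⟨z', hz'⟩ : ∃ z' : Ω, z' ≠ z := by
      rcases eq_or_ne a z with rfl | h
      · exact ⟨b, hab.symm⟩
      · exact ⟨a, h⟩
    obtain ⟨k, hk, -⟩ := pairs h2 hz'.symm hx'w.symm
    have hfix : ∀ r : G, r • z = z → (k * r * k⁻¹) • w.1 = w.1 := fun r hr => by
      rw [← hk, ← mul_smul, inv_mul_cancel_right, mul_smul, hr]
    have e1 := hinvert _ (by rw [orderOf_conj70, hp]) (hfix p hz)
    have e2 := hinvert _ (by rw [orderOf_conj70, hq]) (hfix q hqz)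
    have hpp : p * p = 1 := by rw [← pow_two, ← hp, pow_orderOf_eq_one]
    have hqq : q * q = 1 := by rw [← pow_two, ← hq, pow_orderOf_eq_one]
    refine hnone (k * (p * q) * k⁻¹) ?_ ?_
    · rw [orderOf_conj70]
      refine orderOf_eq_prime ?_ fun e => hne ?_
      · rw [pow_two]
        calc p * q * (p * q) = p * (q * p) * q := by group
          _ = (p * p) * (q * q) := by rw [← hpq.eq]; group
          _ = 1 := by rw [hpp, hqq, one_mul]
      · rw [mul_eq_one_iff_eq_inv.1 e, inv_eq_of_mul_eq_one_right hqq]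
    · show d * (k * (p * q) * k⁻¹) = k * (p * q) * k⁻¹ * d
      symm
      rw [← mul_inv_eq_iff_eq_mul]
      calc k * (p * q) * k⁻¹ * d * (k * (p * q) * k⁻¹)⁻¹
          = (k * p * k⁻¹) * ((k * q * k⁻¹) * d * (k * q * k⁻¹)⁻¹) * (k * p * k⁻¹)⁻¹ := by group
        _ = ((k * p * k⁻¹) * d * (k * p * k⁻¹)⁻¹)⁻¹ := by rw [e2]; group
        _ = d := by rw [e1, inv_inv]
  -- the involution is isolated
  haveI : Fact (Nat.Prime 2) := ⟨Nat.prime_two⟩
  have hz2 : IsPGroup 2 (Subgroup.zpowers u) :=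
    IsPGroup.of_card (n := 1) (by rw [Nat.card_zpowers, hug.1, pow_one])
  obtain ⟨P, hP⟩ := hz2.exists_le_sylow
  have huP : u ∈ (P : Subgroup G) := hP (Subgroup.mem_zpowers u)
  haveI : Nontrivial (P : Subgroup G) := ⟨⟨⟨u, huP⟩, 1, fun e => by
    have := hug.1
    rw [show u = 1 from congrArg Subtype.val e, orderOf_one] at this
    omega⟩⟩
  have := P.2.center_nontrivial
  obtain ⟨k, hk0, hk⟩ := (P.2.to_subgroup (Subgroup.center (P : Subgroup G))).nontrivial_iff_card.1
    inferInstance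
  obtain ⟨⟨⟨z, hzP⟩, hzc⟩, hzo⟩ := exists_prime_orderOf_dvd_card'
    (G := Subgroup.center (P : Subgroup G)) 2 (hk ▸ dvd_pow_self 2 hk0.ne')
  rw [← Subgroup.orderOf_coe, ← Subgroup.orderOf_coe] at hzo
  have hzcomm : ∀ s ∈ (P : Subgroup G), s * z = z * s := fun s hs =>
    congrArg Subtype.val (Subgroup.mem_center_iff.1 hzc ⟨s, hs⟩)
  obtain rfl : z = u := hnc z u hzo hug.1 (hzcomm u huP).symm
  obtain ⟨N, hNn, hNodd, hN⟩ := Cfsg.Agent.S0215.result P z hzo huP fun g hg => by
    exact hnc _ _ (by rw [orderOf_conj70, hzo]) hzo (hzcomm _ hg)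
  rcases eq_or_ne N ⊥ with rfl | hNne
  swap
  · haveI := hNn
    exact hnR (reg_of_odd_normal h2 hNodd hNne)
  have hcen : ∀ g : G, z * g = g * z := fun g => by
    have := hN g
    rw [Subgroup.mem_bot, mul_inv_eq_one, mul_inv_eq_iff_eq_mul] at this
    exact this
  have hall : ∀ p : Ω, z • p = p := fun p => by
    rcases eq_or_ne p w.1 with rfl | hp
    · exact hw
    obtain ⟨g, hg, -⟩ := pairs h2 hx'w.symm (a := w.1) (b := x'.1) (c := p) (d := w.1) hp
    rw [← hg, ← mul_smul, hcen, mul_smul, hw]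
  obtain ⟨p, hp⟩ := exists_moved (Ω := Ω) (g := z) (fun e => by
    subst e; simp at hzo)
  exact hp (hall p)

include h2 in
/-- A sharply doubly transitive group has a regular normal subgroup. -/
theorem reg_of_sharp (hsharp : ∀ g : G, ∀ a b : Ω, a ≠ b → g • a = a → g • b = b → g = 1)
    (hn : 2 ≤ Nat.card Ω) : Reg G Ω := by
  classical
  have := Fintype.ofFinite Ω
  let f := MulAction.toPermHom G Ω
  have hfi : Function.Injective f := MulAction.toPerm_injective
  haveI : IsMultiplyPretransitive f.range Ω 2 := by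
    rw [is_two_pretransitive_iff]
    intro a b c d hab hcd
    obtain ⟨g, h1, h3⟩ := pairs h2 hab hcd
    exact ⟨⟨f g, g, rfl⟩, h1, h3⟩
  obtain ⟨p, j, hp, hj, hcard, hP⟩ := Cfsg.Agent.S0680.result f.range (fun x => by
    rw [Subgroup.eq_bot_iff_forall]
    rintro ⟨_, g, rfl⟩ hg
    have h0 := congrArg (fun e : Fin 2 ↪ Ω => e 0) (mem_stabilizer_iff.1 hg)
    have h1 := congrArg (fun e : Fin 2 ↪ Ω => e 1) (mem_stabilizer_iff.1 hg)
    refine Subtype.ext ?_
    show f g = 1
    rw [hsharp g (x 0) (x 1) (fun e => absurd (x.injective e) (by decide)) h0 h1, map_one])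
    (by rw [← Nat.card_eq_fintype_card]; exact hn)
  haveI := Fact.mk hp
  obtain ⟨P⟩ : Nonempty (Sylow p f.range) := inferInstance
  obtain ⟨hPn, -, -, hPt, hPr, -⟩ := hP ⟨hp⟩ P
  refine ⟨(P : Subgroup f.range).comap f.rangeRestrict, hPn.comap _, fun x y => ?_,
    fun x r hr hrx => ?_⟩
  · haveI := hPt
    obtain ⟨⟨⟨_, g, rfl⟩, hg⟩, hgx⟩ := exists_smul_eq (P : Subgroup f.range) x y
    exact ⟨g, hg, hgx⟩
  · have h1 : (⟨f.rangeRestrict r, hr⟩ : (P : Subgroup f.range)) ∈
        stabilizer (P : Subgroup f.range) x := hrx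
    rw [hPr x, Subgroup.mem_bot] at h1
    exact hfi ((congrArg (fun z : (P : Subgroup f.range) => (z.1.1 : Equiv.Perm Ω)) h1).trans
      (map_one f).symm)

include h2 ht in
theorem main : (∃ (F : Type) (_ : Field F) (_ : Fintype F),
      Nonempty (G ≃* Matrix.ProjectiveSpecialLinearGroup (Fin 2) F)) ∨
    Cfsg.Lie.IsoSuzuki G ∨ Reg G Ω := by
  classical
  by_cases hR : Reg G Ω
  · exact Or.inr (Or.inr hR)
  have := Fintype.ofFinite Ω
  have hne : t ≠ 1 := fun e => by have := ht.1; rw [e, orderOf_one] at this; omega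
  have hn : 2 ≤ Nat.card Ω := by
    obtain ⟨x, hx⟩ := exists_moved (Ω := Ω) hne
    exact Finite.one_lt_card_iff_nontrivial.2 ⟨⟨t • x, x, hx⟩⟩
  obtain ⟨g₁, hg₁, a, b, hab, hga, hgb⟩ : ∃ g : G, g ≠ 1 ∧ ∃ a b : Ω, a ≠ b ∧ g • a = a ∧ g • b = b := by
    by_contra hc
    exact hR (reg_of_sharp h2 (fun g a b hab ha hb => by_contra fun hg => hc ⟨g, hg, a, b, hab, ha, hb⟩) hn)
  have hZ : Cfsg.IsZassenhausGroup G Ω := by
    refine ⟨inferInstance, h2, no_three h2 ht hR, ⟨g₁, hg₁, a, b, hab, hga, hgb⟩, fun N hN hNt => ?_⟩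
    by_contra! hc
    refine hR ⟨N, hN, fun x y => ?_, fun x r hr hrx => ?_⟩
    · obtain ⟨⟨n, hn⟩, hnx⟩ := exists_smul_eq N x y
      exact ⟨n, hn, hnx⟩
    · have : (⟨r, hr⟩ : N) ∈ stabilizer N x := hrx
      rw [hc x, Subgroup.mem_bot] at this
      exact congrArg Subtype.val this
  have hkey := (key h2 ht).2
  have heven : 2 ∣ Nat.card Ω - i := by
    rw [← hkey, ← ht.1, ← Subgroup.orderOf_mk t (Subgroup.mem_centralizer_singleton_iff.2 rfl)]
    exact orderOf_dvd_natCard _
  have hi := le_two h2 ht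
  haveI : IsSimpleGroup G := by
    rcases Nat.even_or_odd (Nat.card Ω) with hev | hodd
    · haveI : Nontrivial G := ⟨⟨t, 1, hne⟩⟩
      constructor
      intro N hN
      by_cases hNb : N = ⊥
      · exact Or.inl hNb
      refine Or.inr ?_
      haveI := hN
      have hNt := transitive_of_normal (Ω := Ω) h2 hNb
      haveI : IsPretransitive N Ω := ⟨fun x y => by
        obtain ⟨m, hm, hmx⟩ := hNt x y
        exact ⟨⟨m, hm⟩, hmx⟩⟩
      haveI : Fact (Nat.Prime 2) := ⟨Nat.prime_two⟩
      have h2N : 2 ∣ Nat.card N := by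
        have h := Subgroup.card_mul_index (stabilizer N a)
        rw [index_stabilizer_of_transitive] at h
        exact (even_iff_two_dvd.1 hev).trans ⟨_, h.symm.trans (mul_comm _ _)⟩
      obtain ⟨v, hv⟩ := exists_prime_orderOf_dvd_card' (G := N) 2 h2N
      have hinN : ∀ w : G, orderOf w = 2 → w ∈ N := fun w hw => by
        obtain ⟨c, hc⟩ := isConj_iff.1 ((invol_isConj h2 ht
          ((Subgroup.orderOf_coe v).trans hv)).symm.trans (invol_isConj h2 ht hw))
        exact hc ▸ hN.conj_mem _ v.2 c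
      have hswapN : ∀ g : G, g • a = b → g • b = a → g ∈ N := fun g h1 h3 =>
        hinN g (swap_good h2 ht hab h1 h3).1
      have hDN : ∀ d ∈ D G a b, d ∈ N := by
        intro d hd
        obtain ⟨s, hsa, hsb⟩ := pairs h2 hab hab.symm
        have h1 := hswapN s hsa hsb
        have h3 := hswapN (s * d) (by rw [mul_smul, (hd.1 : d • a = a), hsa])
          (by rw [mul_smul, (hd.2 : d • b = b), hsb])
        simpa using N.mul_mem (N.inv_mem h1) h3
      have hNZ := Cfsg.Agent.S0339.result hZ N hNb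
      rw [Subgroup.eq_top_iff']
      intro g
      obtain ⟨m, hm1, hm2⟩ := is_two_pretransitive_iff.1 hNZ.2.1 hab
        (show g • a ≠ g • b from fun e => hab (smul_left_cancel g e))
      have hd : (m : G)⁻¹ * g ∈ D G a b :=
        ⟨show _ • a = a by rw [mul_smul, inv_smul_eq_iff]; exact hm1.symm,
         show _ • b = b by rw [mul_smul, inv_smul_eq_iff]; exact hm2.symm⟩
      simpa using N.mul_mem m.2 (hDN _ hd)
    · exact Cfsg.Agent.S0338.result hZ (by rwa [← Nat.card_eq_fintype_card])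
  rcases SuzukiUniq.psl_or_isoSuzuki hZ with h | h
  · exact Or.inl h
  · exact Or.inr (Or.inl h)

end

end Cfsg.Agent.Lib.InvolutionFixity70
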